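import Groth.Agent.KFlatLib.QCohTerms
import Groth.Agent.KFlatLib.TorAmpMore
import Groth.Agent.KFlatLib.Stalk
import Groth.Agent.GrSysLib.Sheaf
import Groth.Agent.OmegaAffLib.StalkCrit
import Groth.Agent.RichLib.ModFlatGlobal
import Groth.Agent.RichLib.IsFPAffine
import Groth.Agent.FlatCrit.Quotient
import Groth.Agent.KFlatLib.CxFlat
import Groth.Agent.QCohLib.Push
import Groth.Agent.RGFlatLib.EtaleFlat
import Groth.Agent.RGFlatLib.ModSheaf

/-!
# Flat quasi-coherent covers on schemes with affine diagonal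
-/

set_option autoImplicit false
universe u
open CategoryTheory CategoryTheory.Limits TopologicalSpace Opposite AlgebraicGeometry

noncomputable section

namespace FlatCoverLib

variable {X Y Z : Scheme.{u}}

/-- On an affine scheme every quasi-coherent module is a quotient of a free one. -/
theorem exists_free_epi [IsAffine Z] (G : Z.Modules) [Coh.IsQCoh G] :
    ∃ (P : Z.Modules) (ε : P ⟶ G), Coh.IsQCoh P ∧ FlatMod.IsFlat P ∧ Epi ε := by
  let P := ∐ fun _ : Γ(G, ⊤) => Coh.structureModule Z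
  let ε : P ⟶ G := Sigma.desc fun t => QCohLib.unitHom G t
  have hP : KFlatLib.FreeRetr P := ⟨_, 𝟙 _, 𝟙 _, Category.id_comp _⟩
  refine ⟨P, ε, hP.isQCoh, hP.isFlat,
    GrSysLib.epi_of_surjective_on_cover ε (fun _ : Unit => ⊤) (fun _ => isAffineOpen_top Z)
      (fun _ => ⟨(), trivial⟩) fun _ t => ?_⟩
  let one : Γ(Coh.structureModule Z, ⊤) := (1 : Γ(Z, ⊤))
  refine ⟨(Sigma.ι (fun _ : Γ(G, ⊤) => Coh.structureModule Z) t).app ⊤ one, ?_⟩
  have h : Sigma.ι (fun _ : Γ(G, ⊤) => Coh.structureModule Z) t ≫ ε = QCohLib.unitHom G t :=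
    Sigma.ι_desc _ _
  have h1 := congr($(h).app ⊤ one)
  refine h1.trans ((QCohLib.unitHom_app G t ⊤ 1).trans ?_)
  rw [one_smul]
  simp

/-- A pullback of two maps of quasi-coherent modules is quasi-coherent. -/
theorem isQCoh_pullback {A B C : X.Modules} (a : A ⟶ C) (b : B ⟶ C) [Coh.IsQCoh A] [Coh.IsQCoh B]
    [Coh.IsQCoh C] [Epi b] : Coh.IsQCoh (pullback a b) := by
  have hepi : Epi (pullback.fst a b) := inferInstance
  let S : ShortComplex X.Modules := ShortComplex.mk (kernel.ι (pullback.fst a b)) (pullback.fst a b)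
    (kernel.condition _)
  have hS : S.ShortExact := { exact := ShortComplex.exact_of_f_is_kernel S (kernelIsKernel _) }
  have h1 : Coh.IsQCoh S.X₁ := by
    have := QCohLib.isQCoh_kernel b
    have hc := IsPullback.of_hasPullback a b
    have := isIso_kernel_map_of_isPullback hc
    exact QCohLib.isQCoh_of_iso (asIso (kernel.map _ _ _ _ hc.w)).symm
  exact QCohLib.isQCoh_of_shortExact hS (h1 := h1) (h3 := ‹Coh.IsQCoh A›)

/-- A map bijective on all opens inside `O` is bijective on stalks at points of `O`. -/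
theorem bijective_stalk_of_app {M N : X.Modules} (φ : M ⟶ N) (O : X.Opens)
    (h : ∀ W : X.Opens, W ≤ O → Function.Bijective (φ.app W)) {y : X} (hy : y ∈ O) :
    Function.Bijective ((DerSch.stalkFunctor X y).map φ) := by
  refine ⟨(injective_iff_map_eq_zero _).mpr fun g hg => ?_, fun g => ?_⟩
  · obtain ⟨W, hyW, s, rfl⟩ := TopCat.Presheaf.exists_germ_eq M.presheaf (x := y) g
    have hg' : N.presheaf.germ W y hyW (φ.app W s) = N.presheaf.germ W y hyW 0 := by
      rw [map_zero, ← DerSch.stalkFunctor_map_germ]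
      exact hg
    obtain ⟨W', hyW', i₁, i₂, he⟩ := TopCat.Presheaf.germ_eq _ y hyW hyW _ _ hg'
    rw [map_zero, ← QCohLib.app_map] at he
    have := (h (W' ⊓ O) inf_le_right).1 (a₁ := M.presheaf.map (homOfLE (inf_le_left.trans i₁.le)).op s)
      (a₂ := 0) (by
        rw [map_zero, ← homOfLE_comp (inf_le_left : W' ⊓ O ≤ W') i₁.le, op_comp, Functor.map_comp,
          ConcreteCategory.comp_apply, QCohLib.app_map φ (homOfLE inf_le_left)]
        exact (congrArg _ he).trans (map_zero _))
    rw [← TopCat.Presheaf.germ_res_apply M.presheaf (homOfLE (inf_le_left.trans i₁.le)) y ⟨hyW', hy⟩ s,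
      this, map_zero]
    rfl
  · obtain ⟨W, hyW, s, rfl⟩ := TopCat.Presheaf.exists_germ_eq N.presheaf (x := y) g
    obtain ⟨t, ht⟩ := (h (W ⊓ O) inf_le_right).2 (N.presheaf.map (homOfLE inf_le_left).op s)
    refine ⟨M.presheaf.germ (W ⊓ O) y ⟨hyW, hy⟩ t, ?_⟩
    refine (DerSch.stalkFunctor_map_germ y φ (W ⊓ O) ⟨hyW, hy⟩ t).trans ?_
    rw [ht]
    exact TopCat.Presheaf.germ_res_apply _ _ _ _ _

theorem flatOverAt_id_iff (M : X.Modules) (x : X) :
    FlatMod.IsFlatOverAt (𝟙 X) M x ↔ FlatMod.IsFlatAt M x := by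
  letI := FlatMod.moduleStalkOver (𝟙 X) M x
  refine RichLib.ModFlat.flat_iff_of_semilinear (R := X.presheaf.stalk ((𝟙 X : X ⟶ X).base x))
    (R' := X.presheaf.stalk x) (M := M.presheaf.stalk x) (M' := M.presheaf.stalk x)
    (RingEquiv.refl (X.presheaf.stalk x)) (AddEquiv.refl _) fun r m => ?_
  have h : (Scheme.Hom.stalkMap (𝟙 X) x).hom r = r := by rw [Scheme.Hom.stalkMap_id]; rfl
  exact congrArg (fun s : X.presheaf.stalk x => s • (m : M.presheaf.stalk x)) h

/-- Flatness of a direct image along an affine open immersion, pointwise. -/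
theorem flatAt_push (j : Z ⟶ X) [IsAffineHom j] [IsOpenImmersion j] (K : Z.Modules) [Coh.IsQCoh K]
    {y : X} {U : X.Opens} (hU : IsAffineOpen U) (hy : y ∈ U)
    (h : ∀ z ∈ j ⁻¹ᵁ U, FlatMod.IsFlatAt K z) :
    FlatMod.IsFlatAt ((Scheme.Modules.pushforward j).obj K) y := by
  let N := (Scheme.Modules.pushforward j).obj K
  have hN : Coh.IsQCoh N := QCohLib.isQCoh_pushforward j K
  have hVU : U ≤ (𝟙 X : X ⟶ X) ⁻¹ᵁ U := le_rfl
  have hj : ∀ z ∈ j ⁻¹ᵁ U, FlatMod.IsFlatOverAt j K z := fun z hz => by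
    letI := FlatMod.moduleStalkOver j K z
    exact (RichLib.ModFlat.flat_iff_of_semilinear (R := X.presheaf.stalk (j z))
      (R' := Z.presheaf.stalk z) (M := K.presheaf.stalk z) (M' := K.presheaf.stalk z)
      (asIso (j.stalkMap z)).commRingCatIsoToRingEquiv (AddEquiv.refl _) fun r m => rfl).mpr (h z hz)
  letI : Algebra Γ(X, U) Γ(Z, j ⁻¹ᵁ U) := (j.appLE U (j ⁻¹ᵁ U) le_rfl).hom.toAlgebra
  letI : Module Γ(X, U) Γ(K, j ⁻¹ᵁ U) := Module.compHom _ (j.appLE U (j ⁻¹ᵁ U) le_rfl).hom
  haveI : IsScalarTower Γ(X, U) Γ(Z, j ⁻¹ᵁ U) Γ(K, j ⁻¹ᵁ U) :=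
    IsScalarTower.of_algebraMap_smul fun _ _ => rfl
  haveI hfl : Module.Flat Γ(X, U) Γ(K, j ⁻¹ᵁ U) :=
    RichLib.IsFPAffine.flat_sections j K hU (hU.preimage j) le_rfl rfl hj
  haveI : Module.Flat Γ(X, U) Γ(N, U) := by
    let e : Γ(N, U) ≃ₗ[Γ(X, U)] Γ(K, j ⁻¹ᵁ U) :=
      { toFun := fun x => x
        invFun := fun x => x
        map_add' := fun _ _ => rfl
        map_smul' := fun a x => by
          refine (QCohLib.push_smul j K _ x).trans ?_
          change _ = j.appLE U (j ⁻¹ᵁ U) le_rfl a • (show Γ(K, j ⁻¹ᵁ U) from x)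
          rw [Scheme.Hom.appLE_eq_app]
        left_inv := fun _ => rfl
        right_inv := fun _ => rfl }
    exact Module.Flat.of_linearEquiv e
  have hat : FlatMod.IsFlatOverAt (𝟙 X) N y :=
    RGFlatLib.isFlatOverAt_of_flat_sections (𝟙 X) N hU hU hVU (by ext; simp [Scheme.Hom.appLE]; exact (congr($(X.presheaf.map_id (op U)) _)).symm) hy
  exact (flatOverAt_id_iff N y).mp hat

/-- Pointwise flatness of an inverse image. -/
theorem flatAt_pullback (f : Z ⟶ X) (M : X.Modules) (z : Z) (h : FlatMod.IsFlatAt M (f z)) :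
    FlatMod.IsFlatAt ((Scheme.Modules.pullback f).obj M) z := by
  have : Module.Flat (X.presheaf.stalk (f z)) ((DerSch.stalkFunctor X (f z)).obj M) := h
  have := KFlatLib.flat_extendScalars (f.stalkMap z).hom ((DerSch.stalkFunctor X (f z)).obj M)
  have h' : Module.Flat (Z.presheaf.stalk z) ((DerSch.stalkFunctor X (f z) ⋙
      ModuleCat.extendScalars.{u, u, u} (f.stalkMap z).hom).obj M) := this
  exact Module.Flat.of_linearEquiv ((KFlatLib.stalkPullIso f z).app M).toLinearEquiv

theorem flatAt_of_iso {M N : X.Modules} (e : M ≅ N) {y : X} (h : FlatMod.IsFlatAt M y) :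
    FlatMod.IsFlatAt N y := by
  have : Module.Flat (X.presheaf.stalk y) ((DerSch.stalkFunctor X y).obj M) := h
  exact Module.Flat.of_linearEquiv ((DerSch.stalkFunctor X y).mapIso e).symm.toLinearEquiv

/-- The kernel of a surjection between modules flat at a point is flat there. -/
theorem flatAt_kernel {M N : X.Modules} (φ : M ⟶ N) [Epi φ] {y : X} (hM : FlatMod.IsFlatAt M y)
    (hN : FlatMod.IsFlatAt N y) : FlatMod.IsFlatAt (kernel φ) y := by
  have hS : (ShortComplex.mk (kernel.ι φ) φ (kernel.condition φ)).ShortExact :=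
    { exact := ShortComplex.exact_of_f_is_kernel _ (kernelIsKernel φ) }
  have h := hS.map_of_exact (DerSch.stalkFunctor X y)
  have : Module.Flat (X.presheaf.stalk y) ((DerSch.stalkFunctor X y).obj M) := hM
  have : Module.Flat (X.presheaf.stalk y) ((DerSch.stalkFunctor X y).obj N) := hN
  exact KFlatLib.flat_kernel ((DerSch.stalkFunctor X y).map (kernel.ι φ)).hom
    ((DerSch.stalkFunctor X y).map φ).hom h.moduleCat_injective_f
    ((ShortComplex.ShortExact.moduleCat_exact_iff_function_exact _).mp h.exact) h.moduleCat_surjective_g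

/-- One step: make a module flat on an affine open, keeping flatness elsewhere. -/
theorem exists_step (hd : ∀ V W : X.Opens, IsAffineOpen V → IsAffineOpen W → IsAffineOpen (V ⊓ W))
    (V : X.Opens) (hV : IsAffineOpen V) (M : X.Modules) [Coh.IsQCoh M] :
    ∃ (M' : X.Modules) (π : M' ⟶ M), Coh.IsQCoh M' ∧ Epi π ∧ (∀ y ∈ V, FlatMod.IsFlatAt M' y) ∧
      ∀ O : X.Opens, (∀ y ∈ O, FlatMod.IsFlatAt M y) → ∀ y ∈ O, FlatMod.IsFlatAt M' y := by
  let j := V.ι
  have : IsAffineHom j := ⟨fun W hW => by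
    refine (j.isAffineOpen_iff_of_isOpenImmersion).mp ?_
    rw [Scheme.Hom.image_preimage_eq_opensRange_inf, Scheme.Opens.opensRange_ι]
    exact hd V W hV hW⟩
  have : IsAffine (V : Scheme.{u}) := hV
  let G := (Scheme.Modules.restrictFunctor j).obj M
  have hG : Coh.IsQCoh G := by
    have := KFlatLib.isQCoh_pullback j M
    exact QCohLib.isQCoh_of_iso ((Scheme.Modules.restrictFunctorIsoPullback j).app M).symm
  obtain ⟨P, ε, hP, hPflat, hε⟩ := exists_free_epi G
  have := QCohLib.isQCoh_pushforward j P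
  have := QCohLib.isQCoh_pushforward j G
  let jP := (Scheme.Modules.pushforward j).map ε
  have hjP : Epi jP := GrSysLib.epi_of_surjective_on_cover jP (fun W : X.affineOpens => W.1)
    (fun W => W.2) (fun x => by
      obtain ⟨W, hW, hxW, -⟩ := exists_isAffineOpen_mem_and_subset (x := x) (U := ⊤) trivial
      exact ⟨⟨W, hW⟩, hxW⟩) fun W t => OmegaAffLib.surjective_app_of_epi (φ := ε) (W.2.preimage j) t
  let η : M ⟶ (Scheme.Modules.pushforward j).obj G := (Scheme.Modules.restrictAdjunction j).unit.app M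
  let M' := pullback η jP
  let π : M' ⟶ M := pullback.fst η jP
  have hbij : ∀ W : X.Opens, W ≤ V → Function.Bijective (η.app W) := fun W hW => by
    rw [Scheme.Modules.restrictAdjunction_unit_app_app]
    have key : ∀ {A B : X.Opens} (h : A ≤ B), A = B →
        Function.Bijective (M.presheaf.map (homOfLE h).op) := fun h e => by
      subst e
      rw [show homOfLE h = 𝟙 _ from rfl, op_id, CategoryTheory.Functor.map_id]
      exact Function.bijective_id
    refine key _ ?_
    rw [Scheme.Hom.image_preimage_eq_opensRange_inf, Scheme.Opens.opensRange_ι]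
    exact inf_eq_right.mpr hW
  refine ⟨M', π, isQCoh_pullback η jP, inferInstance, fun y hy => ?_, fun O hO y hy => ?_⟩
  · have hP' : FlatMod.IsFlatAt ((Scheme.Modules.pushforward j).obj P) y :=
      flatAt_push j P hV hy fun z _ => hPflat z
    have : IsIso ((DerSch.stalkFunctor X y).map η) :=
      (ConcreteCategory.isIso_iff_bijective _).mpr (bijective_stalk_of_app η V hbij hy)
    have hsq := (IsPullback.of_hasPullback η jP).map (DerSch.stalkFunctor X y)
    have : IsIso ((DerSch.stalkFunctor X y).map (pullback.snd η jP)) := hsq.isIso_snd_of_isIso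
    have : Module.Flat (X.presheaf.stalk y)
        ((DerSch.stalkFunctor X y).obj ((Scheme.Modules.pushforward j).obj P)) := hP'
    exact Module.Flat.of_linearEquiv (asIso ((DerSch.stalkFunctor X y).map (pullback.snd η jP))).toLinearEquiv
  · obtain ⟨U, hU, hyU, hUO⟩ := exists_isAffineOpen_mem_and_subset (x := y) (U := O) hy
    have hK : ∀ z ∈ j ⁻¹ᵁ U, FlatMod.IsFlatAt (kernel ε) z := fun z hz =>
      flatAt_kernel ε (hPflat z) (flatAt_of_iso ((Scheme.Modules.restrictFunctorIsoPullback j).app M).symm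
        (flatAt_pullback j M z (hO _ (hUO hz))))
    have := QCohLib.isQCoh_kernel ε
    have h1 : FlatMod.IsFlatAt (kernel π) y := flatAt_of_iso
      ((PreservesKernel.iso (Scheme.Modules.pushforward j) ε) ≪≫
        (@asIso _ _ _ _ _ (isIso_kernel_map_of_isPullback (IsPullback.of_hasPullback η jP))).symm)
      (flatAt_push j (kernel ε) hU hyU hK)
    have hS : (ShortComplex.mk (kernel.ι π) π (kernel.condition π)).ShortExact :=
      { exact := ShortComplex.exact_of_f_is_kernel _ (kernelIsKernel π) }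
    have h := hS.map_of_exact (DerSch.stalkFunctor X y)
    have : Module.Flat (X.presheaf.stalk y) ((DerSch.stalkFunctor X y).obj (kernel π)) := h1
    have : Module.Flat (X.presheaf.stalk y) ((DerSch.stalkFunctor X y).obj M) := hO y hy
    exact FlatCrit.flat_of_extension ((DerSch.stalkFunctor X y).map (kernel.ι π)).hom
      ((DerSch.stalkFunctor X y).map π).hom h.moduleCat_injective_f
      ((ShortComplex.ShortExact.moduleCat_exact_iff_function_exact _).mp h.exact) h.moduleCat_surjective_g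

/-- Quasi-coherent modules are quotients of flat quasi-coherent ones. -/
theorem exists_flat_epi [CompactSpace X]
    (hd : ∀ V W : X.Opens, IsAffineOpen V → IsAffineOpen W → IsAffineOpen (V ⊓ W))
    (M : X.Modules) [Coh.IsQCoh M] :
    ∃ (F : X.Modules) (π : F ⟶ M), Coh.IsQCoh F ∧ FlatMod.IsFlat F ∧ Epi π := by
  classical
  obtain ⟨s, hs⟩ := isCompact_univ.elim_finite_subcover
    (fun W : X.affineOpens => ((W : X.Opens) : Set X)) (fun W => W.1.isOpen) fun z _ => by
      obtain ⟨V, hV, hz, -⟩ := exists_isAffineOpen_mem_and_subset (x := z) (U := ⊤) trivial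
      exact Set.mem_iUnion.mpr ⟨⟨V, hV⟩, hz⟩
  suffices h : ∀ t : Finset X.affineOpens, ∃ (F : X.Modules) (π : F ⟶ M), Coh.IsQCoh F ∧ Epi π ∧
      ∀ W ∈ t, ∀ y ∈ (W : X.Opens), FlatMod.IsFlatAt F y by
    obtain ⟨F, π, hF, hπ, hfl⟩ := h s
    refine ⟨F, π, hF, fun y => ?_, hπ⟩
    obtain ⟨W, hW, hyW⟩ := Set.mem_iUnion₂.mp (hs (Set.mem_univ y))
    exact hfl W hW y hyW
  intro t
  induction t using Finset.induction_on with
  | empty => exact ⟨M, 𝟙 M, ‹_›, inferInstance, fun W hW => absurd hW (Finset.notMem_empty W)⟩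
  | insert V t _ ih =>
    obtain ⟨F, π, hF, hπ, hfl⟩ := ih
    obtain ⟨F', π', hF', hπ', hV, hkeep⟩ := exists_step hd V.1 V.2 F
    refine ⟨F', π' ≫ π, hF', inferInstance, fun W hW => ?_⟩
    rcases Finset.mem_insert.mp hW with rfl | hW
    · exact hV
    · exact hkeep W.1 (hfl W hW)

end FlatCoverLib

end
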