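import Groth.Agent.FlatCoverLib.Basic
import Groth.Agent.QCohLib.FTCrit
import Groth.Agent.QCohLib.AffineFinite
import Mathlib.AlgebraicGeometry.FunctionField
import Mathlib.RingTheory.Flat.TorsionFree

/-!
# Torsion-free coherent covers
-/

set_option autoImplicit false
universe u
open CategoryTheory CategoryTheory.Limits TopologicalSpace Opposite AlgebraicGeometry

noncomputable section

namespace FlatCoverLib

variable {X : Scheme.{u}}

/-- A coherent image of a quasi-coherent module is the image of a coherent submodule. -/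
theorem exists_coh_sub_epi [IsNoetherian X] {K F : X.Modules} [Coh.IsQCoh K] (hF : Coh.IsCoh F)
    (π : K ⟶ F) [Epi π] :
    ∃ (G : X.Modules) (j : G ⟶ K), Mono j ∧ Coh.IsCoh G ∧ Epi (j ≫ π) := by
  classical
  have := hF.1
  obtain ⟨cov, hcov⟩ := isCompact_univ.elim_finite_subcover
    (fun W : X.affineOpens => ((W : X.Opens) : Set X)) (fun W => W.1.isOpen) fun z _ => by
      obtain ⟨V, hV, hz, -⟩ := exists_isAffineOpen_mem_and_subset (x := z) (U := ⊤) trivial
      exact Set.mem_iUnion.mpr ⟨⟨V, hV⟩, hz⟩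
  let I : Type u := {x // x ∈ cov}
  choose n g hg using fun k : I =>
    haveI : Module.Finite Γ(X, k.1.1) Γ(F, k.1.1) := QCohLib.finite_of_isFT (M := F) hF.2 k.1.2
    Module.Finite.exists_fin (R := Γ(X, k.1.1)) (M := Γ(F, k.1.1))
  choose a ha using fun x : (Σ k : I, ULift.{u} (Fin (n k))) =>
    OmegaAffLib.surjective_app_of_epi (φ := π) x.1.1.2 (g x.1 x.2.down)
  obtain ⟨G, j, hjm, hq, hft, hj⟩ := QCohLib.exists_ft_through_finset (K := K)
    (Finset.univ : Finset (Σ k : I, ULift.{u} (Fin (n k)))) (fun x => x.1.1.1) (fun x => x.1.1.2) a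
  refine ⟨G, j, hjm, ⟨hq, hft⟩, GrSysLib.epi_of_surjective_on_cover (j ≫ π) (fun k : I => k.1.1)
    (fun k => k.1.2) (fun x => by
      obtain ⟨W, hW, hxW⟩ := Set.mem_iUnion₂.mp (hcov (Set.mem_univ x))
      exact ⟨⟨W, hW⟩, hxW⟩) fun k => ?_⟩
  let L : Γ(G, k.1.1) →ₗ[Γ(X, k.1.1)] Γ(F, k.1.1) :=
    { toFun := (j ≫ π).app k.1.1, map_add' := map_add _,
      map_smul' := fun r b => QCohLib.app_smul (j ≫ π) k.1.1 r b }
  have hL : LinearMap.range L = ⊤ := top_le_iff.mp <| (hg k).ge.trans <| Submodule.span_le.2 <| by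
    rintro _ ⟨i, rfl⟩
    obtain ⟨z, hz⟩ := hj ⟨k, ⟨i⟩⟩ (Finset.mem_univ _)
    refine ⟨z, ?_⟩
    change π.app k.1.1 (j.app k.1.1 z) = g k i
    exact (congrArg (π.app k.1.1) hz).trans (ha ⟨k, ⟨i⟩⟩)
  exact LinearMap.range_eq_top.1 hL

/-- Coherent modules are quotients of torsion-free coherent ones. -/
theorem exists_torsionFree_epi [IsNoetherian X] [IsIntegral X]
    (hd : ∀ V W : X.Opens, IsAffineOpen V → IsAffineOpen W → IsAffineOpen (V ⊓ W))
    (F : X.Modules) (hF : Coh.IsCoh F) :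
    ∃ (F' : X.Modules) (π : F' ⟶ F), Coh.IsCoh F' ∧
      (∀ y : X, NoZeroSMulDivisors ↥(X.presheaf.stalk y) ↥(F'.presheaf.stalk y)) ∧ Epi π := by
  have := hF.1
  obtain ⟨K, p, hK, hflat, hp⟩ := exists_flat_epi hd F
  obtain ⟨G, j, hj, hG, hjp⟩ := exists_coh_sub_epi hF p
  refine ⟨G, j ≫ p, hG, fun y => ⟨fun {c m} h => ?_⟩, hjp⟩
  let φ := ((DerSch.stalkFunctor X y).map j).hom
  have hinj : Function.Injective φ :=
    (ModuleCat.mono_iff_injective _).mp inferInstance
  have hfy : Module.Flat (X.presheaf.stalk y) ((DerSch.stalkFunctor X y).obj K) := hflat y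
  have : Module.IsTorsionFree (X.presheaf.stalk y) ((DerSch.stalkFunctor X y).obj K) := inferInstance
  rcases eq_or_ne c 0 with hc | hc
  · exact Or.inl hc
  refine Or.inr (hinj ((Module.IsTorsionFree.isSMulRegular (isRegular_of_ne_zero hc))
    (?_ : c • φ m = c • φ 0)))
  rw [map_zero, smul_zero]
  exact (φ.map_smul c m).symm.trans ((congrArg φ h).trans (map_zero φ))

end FlatCoverLib

end
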